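import Groth.Agent.GenMember.Hodge
import Groth.Agent.PicBdd.NumBdd

/-!
Numerical triviality from intersection numbers and from Euler characteristics of twists.
-/

set_option autoImplicit false
set_option backward.isDefEq.respectTransparency false
set_option linter.style.haveILetI false
set_option linter.unusedSectionVars false

universe u

open CategoryTheory CategoryTheory.Limits AlgebraicGeometry TopologicalSpace
open Groth.Agent.Intersect Groth.Agent.Nakai

noncomputable section

namespace Groth.Agent.GenMember

attribute [local instance] Nakai.clMonoid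

variable {k : Type u} [Field k] {X : Scheme.{u}} [X.Over (Spec (CommRingCat.of k))]
  [IsProper (X ↘ Spec (CommRingCat.of k))]

/-- Degree zero on the curves is degree zero on every one dimensional module. -/
theorem degFlat_of_curves {L : X.Modules} (hL : PicF.IsInvertible L)
    (h : ∀ ξ : X, topologicalKrullDim (closure ({ξ} : Set X)) = ((1 : ℕ) : WithBot ℕ∞) →
      D k [L] (Devissage.A ξ) = 0) : DegFlat k L := by
  intro F hF hd
  haveI := CurveRR.isNoetherian_of_proper k X
  obtain ⟨T, hT⟩ := exists_top_finset k hF hd
  rw [D_get, alt_comp k F hF hd (forall_get (l := [L]) (by simpa using hL)) T hT]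
  refine Finset.sum_eq_zero fun ξ hξ => mul_eq_zero_of_right _ ?_
  rw [← D_get]
  exact h ξ ((hT ξ).1 hξ).2

theorem intNum_vec_eq {r : ℕ} (hd : topologicalKrullDim X ≤ (r : WithBot ℕ∞)) {L M : Fin r → X.Modules}
    (hL : ∀ i, PicF.IsInvertible (L i)) (hLM : ∀ i, Nonempty (CohB1.tensorMod (L i) (M i) ≅ Coh.structureModule X)) :
    (FGA.intNum k X r M (Coh.structureModule X) : ℚ) = (-1 : ℚ) ^ r * D k (List.ofFn L) (Coh.structureModule X) := by
  rw [intNum_eq_alt k r hd, D_ofFn]
  exact alt_inverse k r L M hL (fun i => Nakai.isInvertible_inverse (hL i) (hLM i)) hLM _ (isCoh_one k)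
    (dim_support_structure.trans_le hd)

/-- Intersection numbers with the powers of `H` only see the Euler characteristics of the twists. -/
theorem D_replicate_congr {H : X.Modules} :
    ∀ (m : ℕ) (F G : X.Modules),
      (∀ j : ℕ, Curv2.euler k X (CohB1.tensorMod F (CohB1.tensorPow H j)) =
        Curv2.euler k X (CohB1.tensorMod G (CohB1.tensorPow H j))) →
      D k (List.replicate m H) F = D k (List.replicate m H) G
  | 0, F, G, h => by
    have h0 : Curv2.euler k X F = Curv2.euler k X G := by
      refine ((euler_congr k ?_).trans (h 0)).trans (euler_congr k ?_) <;>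
      simp [cl_tensor, CohB1.tensorPow, cl_one]
    simp only [List.replicate_zero, D, h0]
  | m + 1, F, G, h => by
    simp only [List.replicate_succ, D]
    rw [D_replicate_congr m F G h, D_replicate_congr m (CohB1.tensorMod F H) (CohB1.tensorMod G H) fun j => ?_]
    refine ((euler_congr k ?_).trans (h (j + 1))).trans (euler_congr k ?_) <;>
    simp [cl_tensor, cl_pow, pow_succ, mul_comm, mul_left_comm, mul_assoc]

theorem isTau_of_euler [IrreducibleSpace X] (d : ℕ) (hd : topologicalKrullDim X ≤ (d : WithBot ℕ∞))
    {H L : X.Modules} (hH : CohB1.IsAmple H) (hL : PicF.IsInvertible L)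
    (hv : ∀ m n : ℕ, FGA.eulerCharLE k X (CohB1.tensorMod (CohB1.tensorPow L m) (CohB1.tensorPow H n)) d =
      FGA.eulerCharLE k X (CohB1.tensorPow H n) d) : Pic13.IsTauEquivZero k X L := by
  haveI := CurveRR.isNoetherian_of_proper k X
  refine PicBdd.isTau_of_num k hH hL (degFlat_of_curves hL fun ξ hξ => ?_)
  have hv' : ∀ m n : ℕ, Curv2.euler k X (CohB1.tensorMod (CohB1.tensorPow L m) (CohB1.tensorPow H n)) =
      Curv2.euler k X (CohB1.tensorPow H n) := fun m n => by
    have h := hv m n
    rwa [eulerCharLE_eq k d hd, eulerCharLE_eq k d hd] at h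
  have hkey : ∀ (m a : ℕ), D k (List.replicate a H) (CohB1.tensorPow L m) =
      D k (List.replicate a H) (Coh.structureModule X) := fun m a =>
    D_replicate_congr a _ _ fun j => (hv' m j).trans (euler_congr k (by simp [cl_tensor, cl_one]))
  have hone : ∀ (a : ℕ), D k (List.replicate a H) (CohB1.tensorMod (Coh.structureModule X) L) =
      D k (List.replicate a H) (Coh.structureModule X) := fun a => hkey 1 a
  have htwo : ∀ (a : ℕ), D k (List.replicate a H) (CohB1.tensorMod (CohB1.tensorMod (Coh.structureModule X) L) L) =
      D k (List.replicate a H) (Coh.structureModule X) := fun a => hkey 2 a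
  obtain ⟨r, hr⟩ : ∃ r : ℕ, topologicalKrullDim X = (r : WithBot ℕ∞) := by
    have hbot : topologicalKrullDim X ≠ ⊥ := fun hb => by
      rw [topologicalKrullDim, Order.krullDim_eq_bot_iff] at hb
      exact hb.elim' ⟨Set.univ, IrreducibleSpace.isIrreducible_univ X, isClosed_univ⟩
    match hq : topologicalKrullDim X, hbot, hd with
    | ⊥, hbot, _ => exact absurd rfl hbot
    | (a : ℕ∞), _, hd =>
      match a, hd with
      | ⊤, hd => exact absurd (WithBot.coe_le_coe.1 hd) (by simp)
      | (r : ℕ), _ => exact ⟨r, rfl⟩
  match r, hr with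
  | 0, hr =>
    have h1 := dim_closure_le (X := X) isClosed_univ (Set.mem_univ ξ)
    rw [(Homeomorph.Set.univ X).isHomeomorph.topologicalKrullDim_eq, hr, hξ] at h1
    have := CartierDim.natCast_le_withBot.1 h1
    omega
  | 1, hr =>
    have hξu : closure ({ξ} : Set X) = Set.univ := by
      have hη : ξ = genericPoint X := (eq_of_dim (genericPoint_specializes ξ)
        ((topologicalKrullDim_subspace_le X _).trans hr.le) hξ).symm
      rw [hη]; exact genericPoint_spec X
    obtain ⟨h1, h2⟩ := D_single k (P := ξ) (l := [L]) (by simpa using hL) (isCoh_one k)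
      (by rw [hξu]; exact Set.subset_univ _) (by rw [Intersect.support_structure]; trivial) hξ
    have h0 : D k [L] (Coh.structureModule X) = 0 := by
      have := hone 0
      simp only [List.replicate_zero, D] at this ⊢
      linarith
    rw [h0] at h2
    have hne : (CurveRR.Multi.lenAt (Coh.structureModule X) ξ : ℤ) ≠ 0 := by omega
    exact (mul_eq_zero.1 h2.symm).resolve_left (Int.cast_ne_zero.2 hne)
  | n + 2, hr =>
    refine deg_eq_zero_of_irreducible hr hH hL ?_ (le_of_eq ?_) hξ
    · rw [D, hone (n + 1), sub_self]
    · simp only [D, hone n, htwo n, sub_self, mul_zero]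

end Groth.Agent.GenMember
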