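import Groth.Agent.GenMember.Member
import Groth.Agent.Nakai.HodgeNum
import Groth.Agent.Nakai.NumPull
import Groth.Agent.Nakai.SemiAmple
import Groth.Agent.CurveRR.TmapR
import Groth.Agent.TMul.RelAmple
import Groth.Agent.S7673
import Groth.Agent.ClSubLib.Support

/-!
The Hodge index theorem in any dimension, by cutting with the generic member of an ample linear system
through a given curve.
-/

set_option autoImplicit false
set_option backward.isDefEq.respectTransparency false
set_option linter.style.haveILetI false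
set_option linter.unusedSectionVars false

universe u

open CategoryTheory CategoryTheory.Limits AlgebraicGeometry TopologicalSpace
open Groth.Agent.Intersect Groth.Agent.Nakai
open Groth.Agent.CurveRR.Multi (lenAt)

noncomputable section

namespace Groth.Agent.GenMember

variable {k : Type u} [Field k] {X : Scheme.{u}} [X.Over (Spec (CommRingCat.of k))]
  [IsProper (X ↘ Spec (CommRingCat.of k))]

/-- Sections of a power of an ample module with given base locus. -/
theorem exists_family [IsNoetherian X] {H : X.Modules} (hH : CohB1.IsAmple H) {C : Set X} (hC : IsClosed C)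
    (hne : C ≠ Set.univ) :
    ∃ (ι : Type u) (_ : Fintype ι) (N : ℕ) (s : ι → (Coh.structureModule X ⟶ CohB1.tensorPow H N)),
      Nonempty ι ∧ 0 < N ∧ (∀ x : X, x ∉ C → ∃ j, x ∈ CohB1.genLocus _ (s j)) ∧
        ∀ x : X, x ∈ C → ∀ j, x ∉ CohB1.genLocus _ (s j) := by
  classical
  let O : X.Opens := ⟨Cᶜ, hC.isOpen_compl⟩
  choose n t hxt hle _ using fun x : (Cᶜ : Set X) => TMul.exists_mem_le hH (U := O) (show (x : X) ∈ O from x.2)
  have hcomp : IsCompact (Cᶜ : Set X) := NoetherianSpace.isCompact _
  obtain ⟨T, hT⟩ := hcomp.elim_finite_subcover (fun x : (Cᶜ : Set X) => (CohB1.genLocus _ (t x) : Set X))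
    (fun x => (CohB1.genLocus _ (t x)).isOpen) fun x hx => Set.mem_iUnion.2 ⟨⟨x, hx⟩, hxt _⟩
  let N := ∏ x ∈ T, (n x + 1)
  have hN : 0 < N := Finset.prod_pos fun _ _ => Nat.succ_pos _
  have hq : ∀ x : T, ∃ q, (n x.1 + 1) * (q + 1) = N := fun x => by
    obtain ⟨c, hc⟩ := Finset.dvd_prod_of_mem (fun y => n y + 1) x.2
    change N = _ at hc
    refine ⟨c - 1, ?_⟩
    have : c ≠ 0 := fun h => by rw [h, mul_zero] at hc; omega
    rw [hc, Nat.sub_add_cancel (Nat.one_le_iff_ne_zero.2 this)]
  choose q hq using hq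
  let s : T → (Coh.structureModule X ⟶ CohB1.tensorPow H N) := fun x =>
    SecTwist.powHom (t x.1) (q x + 1) ≫ ((TMul.nonempty_powMulIso (L := H) (n x.1 + 1) (q x + 1)).some ≪≫ eqToIso (congrArg (CohB1.tensorPow H) (hq x))).hom
  have hs : ∀ x : T, CohB1.genLocus _ (s x) = CohB1.genLocus _ (t x.1) := fun x => by
    rw [TMul.genLocus_comp, TMul.genLocus_powHom (TMul.isInvertible_tensorPow hH.1 _)]
  have hout : ∀ x : X, x ∉ C → ∃ j : T, x ∈ CohB1.genLocus _ (s j) := fun x hx => by
    obtain ⟨y, hy⟩ := Set.mem_iUnion.1 (hT hx)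
    obtain ⟨hyT, hy⟩ := Set.mem_iUnion.1 hy
    exact ⟨⟨y, hyT⟩, (hs ⟨y, hyT⟩).symm ▸ hy⟩
  refine ⟨T, inferInstance, N, s, ?_, hN, hout, fun x hx j hj => ?_⟩
  · obtain ⟨x, hx⟩ := (Set.ne_univ_iff_exists_notMem C).1 hne
    exact ⟨(hout x hx).choose⟩
  · rw [hs] at hj
    exact hle j.1 hj hx

theorem dim_empty : topologicalKrullDim (∅ : Set X) = ⊥ := by
  haveI : IsEmpty (IrreducibleCloseds (∅ : Set X)) := ⟨fun Z => Z.isIrreducible'.nonempty.some.2.elim⟩
  exact Order.krullDim_eq_bot

theorem D_cons_iso {A A' : X.Modules} (e : A ≅ A') (l : List X.Modules) (F : X.Modules) :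
    D k (A :: l) F = D k (A' :: l) F := by
  rw [D, D, D_iso k l (PicGrp.tensorModIso (Iso.refl F) e)]

variable (k) in
/-- A module supported on an irreducible closed set, top dimensional. -/
theorem D_single {P : X} {l : List X.Modules} (hl : ∀ A ∈ l, PicF.IsInvertible A) {F : X.Modules} (hF : Coh.IsCoh F)
    (hFs : CohB1.support F ⊆ closure {P}) (hP : P ∈ CohB1.support F)
    (hd : topologicalKrullDim (closure ({P} : Set X)) = (l.length : WithBot ℕ∞)) :
    1 ≤ lenAt F P ∧ D k l F = (lenAt F P : ℚ) * D k l (Devissage.A P) := by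
  haveI := CurveRR.isNoetherian_of_proper k X
  refine ⟨lenAt_one_le hFs hF hP fun y hy hyP =>
    (hyP.antisymm (specializes_iff_mem_closure.2 hy)).eq, ?_⟩
  rw [D_get, D_get, alt_comp k F hF ((dim_mono hFs).trans hd.le) (forall_get hl) {P} (fun w => ?_),
    Finset.sum_singleton]
  refine ⟨fun hw => ?_, fun hw => ?_⟩
  · rw [Finset.mem_singleton.mp hw]
    exact ⟨hP, hd⟩
  · exact Finset.mem_singleton.mpr (eq_of_dim (specializes_iff_mem_closure.2 (hFs hw.1)) hd.le hw.2).symm

/-- Degrees on a curve do not see the embedding. -/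
theorem deg_push {Y : Scheme.{u}} [Y.Over (Spec (CommRingCat.of k))] [IsProper (Y ↘ Spec (CommRingCat.of k))]
    (g : Y ⟶ X) [IsClosedImmersion g] (hg : g ≫ (X ↘ Spec (CommRingCat.of k)) = Y ↘ Spec (CommRingCat.of k))
    {L : X.Modules} (hL : PicF.IsInvertible L)
    (h : ∀ y : Y, topologicalKrullDim (closure ({y} : Set Y)) = ((1 : ℕ) : WithBot ℕ∞) →
      D k [(Scheme.Modules.pullback g).obj L] (Devissage.A y) = 0)
    {y : Y} (hy : topologicalKrullDim (closure ({g y} : Set X)) = ((1 : ℕ) : WithBot ℕ∞)) :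
    D k [L] (Devissage.A (g y)) = 0 := by
  haveI := CurveRR.isNoetherian_of_proper k X
  haveI := CurveRR.isNoetherian_of_proper k Y
  have hy' : topologicalKrullDim (closure ({y} : Set Y)) = ((1 : ℕ) : WithBot ℕ∞) := by
    rw [← hy, ← image_closure g y]
    exact IsHomeomorph.topologicalKrullDim_eq _
      (g.isClosedEmbedding.isEmbedding.homeomorphImage (closure {y})).isHomeomorph
  let G := (Scheme.Modules.pushforward g).obj (Devissage.A y)
  have hA := Devissage.isCoh_A y
  have hG : Coh.IsCoh G := isCoh_push' g hA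
  have hb := pushStalk_bijective_of_fibre g g.isClosedMap (Devissage.A y)
    (Groth.Agent.QC.isClosed_support hA.2) y fun z hz => g.isClosedEmbedding.injective hz.1
  have hmem : g y ∈ CohB1.support G := fun hs => by
    haveI : Nontrivial ((Devissage.A y).presheaf.stalk y) :=
      not_subsingleton_iff_nontrivial.1 (Devissage.piece_A y).mem
    exact not_subsingleton ((Devissage.A y).presheaf.stalk y) (@Function.Surjective.subsingleton _ _ _ hs hb.2)
  have hGs : CohB1.support G ⊆ closure {g y} :=
    (support_push_subset g (g.isClosedMap _ isClosed_closure) (Devissage.support_A_subset y)).trans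
      (image_closure g y).le
  obtain ⟨h1, h2⟩ := D_single k (l := [L]) (by simpa using hL) hG hGs hmem hy
  rw [← D_push k g hg (l := [L]) (by simpa using hL) hA
    ((dim_mono (Devissage.support_A_subset y)).trans hy'.le), List.map_singleton, h y hy'] at h2
  have hne : (lenAt G (g y) : ℤ) ≠ 0 := by omega
  exact (mul_eq_zero.1 h2.symm).resolve_left (Int.cast_ne_zero.2 hne)

section BaseChange

variable {ι : Type u} [Fintype ι]

theorem D_baseChange : ∀ (l : List X.Modules), (∀ A ∈ l, PicF.IsInvertible A) →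
    ∀ (F : X.Modules), Coh.IsCoh F →
      D (RatF k ι) (l.map (Scheme.Modules.pullback (pr k X ι)).obj) ((Scheme.Modules.pullback (pr k X ι)).obj F) =
        D k l F
  | [], _, F, hF => by
    simp only [List.map_nil, D]
    exact congrArg (fun z : ℤ => (z : ℚ)) (Groth.Agent.S7673.result k X (RatF k ι) F hF)
  | A :: l, hl, F, hF => by
    haveI := CurveRR.isNoetherian_of_proper k X
    have hA := hl A List.mem_cons_self
    have hl' : ∀ B ∈ l, PicF.IsInvertible B := fun B hB => hl B (List.mem_cons_of_mem _ hB)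
    obtain ⟨e⟩ := TMul.nonempty_pullTensorIso (pr k X ι) F A
    rw [List.map_cons, D, D, D_baseChange l hl' F hF, D_iso (RatF k ι) _ e,
      D_baseChange l hl' _ (CurveRR.isCoh_tensor' hF (CurveRR.isCoh_of_inv hA))]

theorem D_baseChange_one {l : List X.Modules} (hl : ∀ A ∈ l, PicF.IsInvertible A) :
    D (RatF k ι) (l.map (Scheme.Modules.pullback (pr k X ι)).obj) (Coh.structureModule _) =
      D k l (Coh.structureModule X) := by
  rw [← D_iso (RatF k ι) _ (DerPerf.pullUnitIso (pr k X ι)), D_baseChange l hl _ (isCoh_one k)]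

end BaseChange

/-- The statement of the Hodge index theorem in dimension `n + 2`. -/
def Index (n : ℕ) : Prop :=
  ∀ (k : Type u) [Field k] (X : Scheme.{u}) [X.Over (Spec (CommRingCat.of k))]
    [IsProper (X ↘ Spec (CommRingCat.of k))] [IsIntegral X],
    topologicalKrullDim X = ((n + 2 : ℕ) : WithBot ℕ∞) →
    ∀ H L : X.Modules, CohB1.IsAmple H → PicF.IsInvertible L →
      D k (L :: List.replicate (n + 1) H) (Coh.structureModule X) = 0 →
      (-1 : ℚ) ^ n * D k (L :: L :: List.replicate n H) (Coh.structureModule X) ≤ 0 ∧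
        (D k (L :: L :: List.replicate n H) (Coh.structureModule X) = 0 →
          ∀ ξ : X, topologicalKrullDim (closure ({ξ} : Set X)) = ((1 : ℕ) : WithBot ℕ∞) →
            D k [L] (Devissage.A ξ) = 0)

theorem index_zero : Index.{u} 0 := by
  intro k _ X _ _ _ hdim H L hH hL horth
  have hdim' : topologicalKrullDim X = 2 := hdim
  have h1 : inter k L H = 0 := horth
  have h2 : inter k L L ≤ 0 := self_nonpos k hdim' hL hH h1
  refine ⟨by simpa [inter] using h2, fun h0 ξ hξ => ?_⟩
  refine deg_curve_eq_zero k hdim' hH.1 hL ?_ h1 (le_of_eq (show inter k L L = 0 from h0).symm) hξ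
  have h3 := alt_pos k 2 (fun _ => H) (fun _ => hH) _ (isCoh_one k (X := X)) (dim_support_structure.trans hdim)
  rw [← D_replicate] at h3
  simpa [inter] using h3

/-- Cutting with the generic member through a given closed set of dimension at most one. -/
theorem index_cut {n : ℕ} (ih : Index.{u} n) [IsIntegral X]
    (hdim : topologicalKrullDim X = ((n + 3 : ℕ) : WithBot ℕ∞)) {H L : X.Modules} (hH : CohB1.IsAmple H)
    (hL : PicF.IsInvertible L)
    (horth : D k (L :: List.replicate (n + 2) H) (Coh.structureModule X) = 0) {C : Set X} (hC : IsClosed C)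
    (hC1 : topologicalKrullDim C ≤ ((1 : ℕ) : WithBot ℕ∞)) :
    (-1 : ℚ) ^ (n + 1) * D k (L :: L :: List.replicate (n + 1) H) (Coh.structureModule X) ≤ 0 ∧
      (D k (L :: L :: List.replicate (n + 1) H) (Coh.structureModule X) = 0 →
        ∀ ξ : X, closure ({ξ} : Set X) = C →
          topologicalKrullDim (closure ({ξ} : Set X)) = ((1 : ℕ) : WithBot ℕ∞) → D k [L] (Devissage.A ξ) = 0) := by
  classical
  haveI := CurveRR.isNoetherian_of_proper k X
  have hCne : C ≠ Set.univ := fun h => by
    have h2 : topologicalKrullDim C = topologicalKrullDim X := by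
      rw [h]; exact (Homeomorph.Set.univ X).isHomeomorph.topologicalKrullDim_eq
    rw [h2, hdim] at hC1
    have := CartierDim.natCast_le_withBot.1 hC1
    omega
  obtain ⟨ι, hι, N, s, hιne, hN, hout, hin⟩ := exists_family hH hC hCne
  haveI := hιne
  haveI : IsIntegral (XK k X ι) := isIntegral_XK k X ι
  haveI := CurveRR.isNoetherian_of_proper (RatF k ι) (XK k X ι)
  let K := RatF k ι
  let Y := XK k X ι
  let p := pr k X ι
  have hM : PicF.IsInvertible (CohB1.tensorPow H N) := TMul.isInvertible_tensorPow hH.1 N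
  haveI : IsAffineHom p := MorphismProperty.pullback_fst _ _ inferInstance
  let HK : Y.Modules := (Scheme.Modules.pullback p).obj H
  let LK : Y.Modules := (Scheme.Modules.pullback p).obj L
  have hHK : CohB1.IsAmple HK := TMul.isAmple_pullback_of_isAffineHom p hH
  have hLK : PicF.IsInvertible LK := PicLoc.isInvertible_pullback p hL
  have hMK : PicF.IsInvertible ((Scheme.Modules.pullback p).obj (CohB1.tensorPow H N)) :=
    PicLoc.isInvertible_pullback p hM
  obtain ⟨j₀⟩ := hιne
  obtain ⟨x₀, hx₀⟩ := (Set.ne_univ_iff_exists_notMem C).1 hCne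
  obtain ⟨j, hj⟩ := hout x₀ hx₀
  obtain ⟨hgen, hne0⟩ := gsec_ne_zero (k := k) s hM hj
  let σ := gsec (k := k) s
  haveI : Mono σ := CurveRR.mono_of_ne_zero TMul.isInvertible_structureModule hMK σ hne0
  have hQ : Coh.IsCoh (cokernel σ) := Groth.Agent.QC.isCoh_cokernel (isCoh_one K (X := Y)).1
    (CurveRR.isCoh_of_inv hMK) σ
  have hQs : CohB1.support (cokernel σ) = zeroSet (k := k) s := support_coker_section hMK σ
  have hY : topologicalKrullDim Y = ((n + 3 : ℕ) : WithBot ℕ∞) := dim_XK.trans hdim
  -- cutting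
  have hcut : ∀ l : List Y.Modules, (∀ A ∈ l, PicF.IsInvertible A) → l.length = n + 2 →
      (N : ℚ) * D K (HK :: l) (Coh.structureModule Y) = -D K l (cokernel σ) := fun l hl hlen => by
    obtain ⟨e⟩ := TMul.nonempty_pullPowIso p H N
    rw [← D_pow K (isCoh_one K) hHK.1 hl (e := n + 3) (by omega)
      ((dim_support_structure (X := Y)).trans hY).le N, D_cons_iso e, D_cons_get, D_get]
    exact alt_coker_section K hMK σ (forall_get hl)
  have hne : (zeroSet (k := k) s).Nonempty := by
    by_contra h
    rw [Set.not_nonempty_iff_eq_empty] at h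
    have h1 := hcut (List.replicate (n + 2) HK) (by intro A hA; rw [List.eq_of_mem_replicate hA]; exact hHK.1)
      (by simp)
    rw [D_get, D_get K (List.replicate (n + 2) HK), alt_eq_zero_of_dim K hQ
      (forall_get (by intro A hA; rw [List.eq_of_mem_replicate hA]; exact hHK.1))
      (by rw [hQs, h, dim_empty]; exact bot_lt_iff_ne_bot.2 (by simp)), neg_zero, ← D_get] at h1
    have h2 := alt_pos K (n + 3) (fun _ => HK) (fun _ => hHK) _ (isCoh_one K (X := Y))
      (dim_support_structure.trans hY)
    rw [← D_replicate, List.replicate_succ, (mul_eq_zero.1 h1).resolve_left (by exact_mod_cast hN.ne'),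
      mul_zero] at h2
    exact lt_irrefl _ h2
  obtain ⟨P, hcl, hPd, -, hbase⟩ := exists_point (k := k) s hM (r := n + 2) (by omega) hdim hC hC1 hout hin hne
  let Z := (Scheme.IdealSheafData.vanishingIdeal (Devissage.Zc P)).subscheme
  let i : Z ⟶ Y := Devissage.Zi P
  letI : Z.Over (Spec (CommRingCat.of K)) := ⟨i ≫ (Y ↘ Spec (CommRingCat.of K))⟩
  haveI : IsProper (Z ↘ Spec (CommRingCat.of K)) := inferInstanceAs (IsProper (i ≫ _))
  haveI : IsIntegral Z := Devissage.Zi_isIntegral P
  haveI := CurveRR.isNoetherian_of_proper K Z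
  have hZd : topologicalKrullDim Z = ((n + 2 : ℕ) : WithBot ℕ∞) := by
    rw [IsHomeomorph.topologicalKrullDim_eq _ i.isClosedEmbedding.isEmbedding.toHomeomorph.isHomeomorph,
      Devissage.range_Zi P, hPd]
  haveI : CompactSpace Y := hHK.2.1
  have hHZ : CohB1.IsAmple ((Scheme.Modules.pullback i).obj HK) :=
    TMul.isAmple_pullback i i.isClosedEmbedding.isInducing hHK
  have hLZ : PicF.IsInvertible ((Scheme.Modules.pullback i).obj LK) := PicLoc.isInvertible_pullback i hLK
  have hlen : ∀ l : List Y.Modules, (∀ A ∈ l, PicF.IsInvertible A) → l.length = n + 2 →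
      ∃ c : ℚ, 0 < c ∧ D K (HK :: l) (Coh.structureModule Y) =
        -(c * D K (l.map (Scheme.Modules.pullback i).obj) (Coh.structureModule Z)) := fun l hl hlen => by
    obtain ⟨h1, h2⟩ := D_single K (P := P) hl hQ (hQs.le.trans hcl.ge)
      (hQs.ge (hcl.le (subset_closure rfl))) (by rw [hlen]; exact hPd)
    have h3 : D K (l.map (Scheme.Modules.pullback i).obj) (Coh.structureModule Z) = D K l (Devissage.A P) :=
      D_push K i rfl hl (isCoh_one K) ((dim_support_structure (X := Z)).trans hZd |>.trans_le (by rw [hlen]))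
    have hN' : (0 : ℚ) < N := by exact_mod_cast hN
    have hl1 : (0 : ℚ) < lenAt (cokernel σ) P := by exact_mod_cast lt_of_lt_of_le Int.one_pos h1
    refine ⟨(lenAt (cokernel σ) P : ℚ) / N, div_pos hl1 hN', ?_⟩
    rw [h3, div_mul_eq_mul_div, ← neg_div, eq_div_iff hN'.ne', mul_comm, hcut l hl hlen, h2]
  have hrep : ∀ (m : ℕ), ∀ A ∈ List.replicate m H, PicF.IsInvertible A := fun m A hA => by
    rw [List.eq_of_mem_replicate hA]; exact hH.1
  have hmem1 : ∀ A ∈ LK :: List.replicate (n + 1) HK, PicF.IsInvertible A := fun A hA => by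
    rcases List.mem_cons.1 hA with rfl | hA
    · exact hLK
    · rw [List.eq_of_mem_replicate hA]; exact hHK.1
  have hmem2 : ∀ A ∈ LK :: LK :: List.replicate n HK, PicF.IsInvertible A := fun A hA => by
    rcases List.mem_cons.1 hA with rfl | hA
    · exact hLK
    rcases List.mem_cons.1 hA with rfl | hA
    · exact hLK
    · rw [List.eq_of_mem_replicate hA]; exact hHK.1
  -- orthogonality and squares on the member
  obtain ⟨c₁, hc₁, hD₁⟩ := hlen _ hmem1 (by simp)
  obtain ⟨c₂, hc₂, hD₂⟩ := hlen _ hmem2 (by simp)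
  have hb1 : D K (HK :: LK :: List.replicate (n + 1) HK) (Coh.structureModule Y) = 0 := by
    rw [D_perm K (List.Perm.swap LK HK _), ← List.replicate_succ, show HK = (Scheme.Modules.pullback p).obj H from rfl,
      ← List.map_replicate (f := (Scheme.Modules.pullback p).obj), ← List.map_cons, D_baseChange_one
      (by simpa [hL] using hrep (n + 2))]
    exact horth
  have hb2 : D K (HK :: LK :: LK :: List.replicate n HK) (Coh.structureModule Y) =
      D k (L :: L :: List.replicate (n + 1) H) (Coh.structureModule X) := by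
    rw [D_perm K (List.Perm.swap LK HK _), D_perm K ((List.Perm.swap LK HK _).cons LK), ← List.replicate_succ,
      show HK = (Scheme.Modules.pullback p).obj H from rfl, ← List.map_replicate (f := (Scheme.Modules.pullback p).obj),
      ← List.map_cons, ← List.map_cons, D_baseChange_one (by simpa [hL] using hrep (n + 1))]
  rw [hb1, eq_comm, neg_eq_zero, mul_eq_zero, or_iff_right hc₁.ne', List.map_cons, List.map_replicate] at hD₁
  obtain ⟨hle, heq⟩ := ih K Z hZd _ _ hHZ hLZ hD₁
  rw [hb2, List.map_cons, List.map_cons, List.map_replicate] at hD₂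
  refine ⟨?_, fun h0 ξ hξC hξ => ?_⟩
  · have h := mul_nonpos_of_nonneg_of_nonpos hc₂.le hle
    rw [hD₂, pow_succ]
    linarith
  · rw [h0, eq_comm, neg_eq_zero, mul_eq_zero, or_iff_right hc₂.ne'] at hD₂
    have hcurves := heq hD₂
    rw [← D_baseChange (ι := ι) [L] (by simpa using hL) _ (Devissage.isCoh_A ξ), List.map_singleton]
    let F := (Scheme.Modules.pullback p).obj (Devissage.A ξ)
    have hF : Coh.IsCoh F := Groth.Agent.QC.isCoh_pullback p (Devissage.isCoh_A ξ)
    have hFs : CohB1.support F ⊆ p ⁻¹' C :=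
      (ClSubLib.support_pullback_subset p _).trans (Set.preimage_mono ((Devissage.support_A_subset ξ).trans hξC.le))
    have hFd : topologicalKrullDim (CohB1.support F) ≤ ((1 : ℕ) : WithBot ℕ∞) :=
      (dim_mono hFs).trans ((dim_preimage hC).le.trans hC1)
    obtain ⟨T, hT⟩ := exists_top_finset K hF hFd
    show D K [LK] F = 0
    rw [D_get, alt_comp K F hF hFd (forall_get (l := [LK]) (by simpa using hLK)) T hT]
    refine Finset.sum_eq_zero fun w hw => mul_eq_zero_of_right _ ?_
    rw [← D_get]
    obtain ⟨z, rfl⟩ : w ∈ Set.range i := by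
      rw [Devissage.range_Zi P, hcl]
      exact hbase (hFs ((hT w).1 hw).1)
    exact deg_push (k := K) i rfl hLK hcurves ((hT _).1 hw).2

theorem index_all : ∀ n : ℕ, Index.{u} n
  | 0 => index_zero
  | n + 1 => by
    intro k _ X _ _ _ hdim H L hH hL horth
    have ih := index_all n
    refine ⟨(index_cut ih hdim hH hL horth isClosed_empty (by rw [dim_empty]; exact bot_le)).1, fun h0 ξ hξ => ?_⟩
    exact (index_cut ih hdim hH hL horth isClosed_closure hξ.le).2 h0 ξ rfl hξ

/-- The Hodge index theorem on an irreducible proper scheme. -/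
theorem deg_eq_zero_of_irreducible [IrreducibleSpace X] {n : ℕ}
    (hdim : topologicalKrullDim X = ((n + 2 : ℕ) : WithBot ℕ∞)) {H L : X.Modules} (hH : CohB1.IsAmple H)
    (hL : PicF.IsInvertible L)
    (horth : D k (L :: List.replicate (n + 1) H) (Coh.structureModule X) = 0)
    (hsq : 0 ≤ (-1 : ℚ) ^ n * D k (L :: L :: List.replicate n H) (Coh.structureModule X))
    {ξ : X} (hξ : topologicalKrullDim (closure ({ξ} : Set X)) = ((1 : ℕ) : WithBot ℕ∞)) :
    D k [L] (Devissage.A ξ) = 0 := by
  haveI := CurveRR.isNoetherian_of_proper k X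
  let η := genericPoint X
  have hη : closure ({η} : Set X) = Set.univ := genericPoint_spec X
  have hηd : topologicalKrullDim (closure ({η} : Set X)) = ((n + 2 : ℕ) : WithBot ℕ∞) := by
    rw [hη, (Homeomorph.Set.univ X).isHomeomorph.topologicalKrullDim_eq, hdim]
  let Z := (Scheme.IdealSheafData.vanishingIdeal (Devissage.Zc η)).subscheme
  let i : Z ⟶ X := Devissage.Zi η
  letI : Z.Over (Spec (CommRingCat.of k)) := ⟨i ≫ (X ↘ Spec (CommRingCat.of k))⟩
  haveI : IsProper (Z ↘ Spec (CommRingCat.of k)) := inferInstanceAs (IsProper (i ≫ _))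
  haveI : IsIntegral Z := Devissage.Zi_isIntegral η
  haveI := CurveRR.isNoetherian_of_proper k Z
  have hZd : topologicalKrullDim Z = ((n + 2 : ℕ) : WithBot ℕ∞) := by
    rw [IsHomeomorph.topologicalKrullDim_eq _ i.isClosedEmbedding.isEmbedding.toHomeomorph.isHomeomorph,
      Devissage.range_Zi η, hηd]
  haveI : CompactSpace X := hH.2.1
  have hlen : ∀ l : List X.Modules, (∀ A ∈ l, PicF.IsInvertible A) → l.length = n + 2 →
      ∃ c : ℚ, 0 < c ∧ D k l (Coh.structureModule X) =
        c * D k (l.map (Scheme.Modules.pullback i).obj) (Coh.structureModule Z) := fun l hl hlen => by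
    obtain ⟨h1, h2⟩ := D_single k (P := η) hl (isCoh_one k) (by rw [hη]; exact Set.subset_univ _)
      (by rw [Intersect.support_structure]; trivial) (by rw [hlen]; exact hηd)
    refine ⟨(lenAt (Coh.structureModule X) η : ℚ), by exact_mod_cast lt_of_lt_of_le Int.one_pos h1, h2.trans ?_⟩
    rw [D_push k i rfl hl (isCoh_one k) ((dim_support_structure (X := Z)).trans hZd |>.trans_le (by rw [hlen]))]
  obtain ⟨c₁, hc₁, hD₁⟩ := hlen (L :: List.replicate (n + 1) H) (fun A hA => by
    rcases List.mem_cons.1 hA with rfl | hA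
    · exact hL
    · rw [List.eq_of_mem_replicate hA]; exact hH.1) (by simp)
  obtain ⟨c₂, hc₂, hD₂⟩ := hlen (L :: L :: List.replicate n H) (fun A hA => by
    rcases List.mem_cons.1 hA with rfl | hA
    · exact hL
    rcases List.mem_cons.1 hA with rfl | hA
    · exact hL
    · rw [List.eq_of_mem_replicate hA]; exact hH.1) (by simp)
  rw [horth, eq_comm, mul_eq_zero, or_iff_right hc₁.ne', List.map_cons, List.map_replicate] at hD₁
  obtain ⟨hle, heq⟩ := index_all n k Z hZd _ _ (TMul.isAmple_pullback i i.isClosedEmbedding.isInducing hH)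
    (PicLoc.isInvertible_pullback i hL) hD₁
  rw [List.map_cons, List.map_cons, List.map_replicate] at hD₂
  rw [hD₂, mul_left_comm] at hsq
  have h0 : (-1 : ℚ) ^ n * D k ((Scheme.Modules.pullback i).obj L :: (Scheme.Modules.pullback i).obj L ::
      List.replicate n ((Scheme.Modules.pullback i).obj H)) (Coh.structureModule Z) = 0 := by
    refine le_antisymm hle ?_
    by_contra h
    push Not at h
    exact absurd hsq (not_le.2 (mul_neg_of_pos_of_neg hc₂ h))
  obtain ⟨z, rfl⟩ : ξ ∈ Set.range i := by rw [Devissage.range_Zi η, hη]; trivial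
  exact deg_push i rfl hL (heq ((mul_eq_zero.1 h0).resolve_left (pow_ne_zero _ (by norm_num)))) hξ

end Groth.Agent.GenMember
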