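import Groth.Agent.GenMember.Scheme
import Groth.Agent.Intersect.Surface
import Groth.Agent.CurveRR.Deg

/-!
The zero set of the generic section is irreducible, of codimension one, and lies over the generic point.
-/

set_option autoImplicit false
set_option backward.isDefEq.respectTransparency false
set_option linter.style.haveILetI false
set_option linter.unusedSectionVars false

universe u

open CategoryTheory CategoryTheory.Limits AlgebraicGeometry TopologicalSpace TensorProduct
open Groth.Agent.Intersect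

noncomputable section

namespace Groth.Agent.GenMember

variable {k : Type u} [Field k] {X : Scheme.{u}} [X.Over (Spec (CommRingCat.of k))]
  [IsProper (X ↘ Spec (CommRingCat.of k))] {ι : Type u} [Fintype ι]

instance isProper_XK : IsProper (XK k X ι ↘ Spec (CommRingCat.of (RatF k ι))) :=
  inferInstanceAs (IsProper (Limits.pullback.snd _ _))

theorem jacobsonSpace_XK : JacobsonSpace (XK k X ι) := by
  suffices h : ∀ (K : Type u) [Field K] (Y : Scheme.{u}) (g : Y ⟶ Spec (CommRingCat.of K)) [IsProper g],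
      JacobsonSpace Y from h (RatF k ι) _ (XK k X ι ↘ Spec (CommRingCat.of (RatF k ι)))
  intro K _ Y g _
  exact LocallyOfFiniteType.jacobsonSpace g

theorem dim_XK : topologicalKrullDim (XK k X ι) = topologicalKrullDim X :=
  (DimField.dim_eq_of_isPullback _ _ _ _ (isPullback_pr (k := k) (X := X) ι)).symm

/-- The points over a closed set, as a scheme of the same dimension. -/
theorem dim_preimage {C : Set X} (hC : IsClosed C) :
    topologicalKrullDim (pr k X ι ⁻¹' C : Set (XK k X ι)) = topologicalKrullDim C := by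
  let I := Scheme.IdealSheafData.vanishingIdeal ⟨C, hC⟩
  let j := I.subschemeι
  have hj : Set.range j = C := I.range_subschemeι.trans (Scheme.IdealSheafData.coe_support_vanishingIdeal ⟨C, hC⟩)
  let e := pullback.snd j (pr k X ι)
  have h := (IsPullback.of_hasPullback j (pr k X ι)).paste_vert
    (isPullback_pr (k := k) (X := X) ι)
  have hd := DimField.dim_eq_of_isPullback _ _ _ _ h
  have hr : Set.range e = pr k X ι ⁻¹' C := by rw [Scheme.Pullback.range_snd, hj]
  rw [← hr, ← hj, ← IsHomeomorph.topologicalKrullDim_eq _ e.isClosedEmbedding.isEmbedding.toHomeomorph.isHomeomorph,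
    ← IsHomeomorph.topologicalKrullDim_eq _ j.isClosedEmbedding.isEmbedding.toHomeomorph.isHomeomorph]
  exact hd.symm

variable [IsIntegral X] [Nonempty ι] {M : X.Modules} (s : ι → (Coh.structureModule X ⟶ M))
  (hM : PicF.IsInvertible M)

include hM in
/-- A chain below a zero of a section, inside the zero set. -/
theorem exists_high_generization [IsIntegral (XK k X ι)] {r : ℕ}
    (hX : topologicalKrullDim X = ((r + 1 : ℕ) : WithBot ℕ∞)) {w : XK k X ι}
    (hw : w ∈ zeroSet (k := k) s) (hwc : IsClosed ({w} : Set (XK k X ι))) :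
    ∃ y ∈ zeroSet (k := k) s, y ⤳ w ∧ (r : WithBot ℕ∞) ≤ topologicalKrullDim (closure {y} : Set (XK k X ι)) := by
  have hL : PicF.IsInvertible ((Scheme.Modules.pullback (pr k X ι)).obj M) := PicLoc.isInvertible_pullback _ hM
  obtain ⟨U, e, hPU, he⟩ := TMul.exists_isGen hL w
  obtain ⟨c, hc⟩ := (he U le_rfl).2 (TMul.val (gsec (k := k) s) U)
  simp only [Groth.Agent.QC.res_self] at hc
  let f := ((XK k X ι).presheaf.germ U w hPU).hom c
  have hf : ¬ IsUnit f := fun h => hw ((TMul.mem_genLocus_iff_isUnit _ he hc.symm hPU).2 h)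
  let R := (XK k X ι).presheaf.stalk w
  have h1 : ringKrullDim R ≤ ringKrullDim (R ⧸ Ideal.span {f}) + (({f} : Set R).encard : ℕ∞) :=
    ringKrullDim_le_ringKrullDim_quotient_add_encard {f} (by
      rw [Set.singleton_subset_iff, Ring.jacobson_eq_sInf_isMaximal]
      exact Submodule.mem_sInf.2 fun I hI => by
        rw [IsLocalRing.eq_maximalIdeal hI]
        exact hf)
  rw [dim_stalk_closed (RatF k ι) hwc, dim_XK, hX, Set.encard_singleton] at h1
  have h2 : (r : WithBot ℕ∞) ≤ ringKrullDim (R ⧸ Ideal.span {f}) := by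
    generalize ringKrullDim (R ⧸ Ideal.span {f}) = d at h1
    match d, h1 with
    | ⊥, h1 => simp at h1
    | (a : ℕ∞), h1 =>
      rw [show ((r + 1 : ℕ) : WithBot ℕ∞) = (((r + 1 : ℕ) : ℕ∞) : WithBot ℕ∞) from rfl,
        ← WithBot.coe_add, WithBot.coe_le_coe, Nat.cast_add, Nat.cast_one, WithTop.add_le_add_iff_right ((by simp : (1 : ℕ∞) ≠ ⊤))] at h1
      exact WithBot.coe_le_coe.2 h1
  obtain ⟨l, hl⟩ := Order.le_krullDim_iff.1 h2
  subst hl
  let q : Fin (l.length + 1) → PrimeSpectrum R := fun i => PrimeSpectrum.comap (Ideal.Quotient.mk _) (l i)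
  have hq : Function.Injective (PrimeSpectrum.comap (Ideal.Quotient.mk (Ideal.span {f}))) :=
    PrimeSpectrum.comap_injective_of_surjective _ Ideal.Quotient.mk_surjective
  let y : Fin (l.length + 1) → XK k X ι := fun i => (XK k X ι).fromSpecStalk w (q i.rev)
  have hyw : ∀ i, y i ⤳ w := fun i => by
    have hrange : y i ∈ Set.range ((XK k X ι).fromSpecStalk w) := ⟨_, rfl⟩
    rwa [Scheme.range_fromSpecStalk] at hrange
  have hchain : ∀ i j, i < j → y j ⤳ y i ∧ y i ≠ y j := fun i j hij => by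
    have hlt : l j.rev < l i.rev := l.strictMono (Fin.rev_lt_rev.2 hij)
    refine ⟨((PrimeSpectrum.le_iff_specializes _ _).1 ?_).map ((XK k X ι).fromSpecStalk w).continuous, fun h => ?_⟩
    · exact Ideal.comap_mono hlt.le
    · exact hlt.ne' (hq (((XK k X ι).fromSpecStalk w).isEmbedding.injective h))
  refine ⟨y (Fin.last _), fun h => ?_, hyw _, ?_⟩
  · have hyU : y (Fin.last _) ∈ U := Specializes.mem_open (hyw _) U.isOpen hPU
    have hb : y (Fin.last _) ∈ (XK k X ι).basicOpen c :=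
      ((XK k X ι).mem_basicOpen c _ hyU).2 ((TMul.mem_genLocus_iff_isUnit _ he hc.symm hyU).1 h)
    refine (Groth.Agent.S5093.fromSpecStalk_mem_basicOpen_iff w U hPU c (q (Fin.last _).rev)).1 hb ?_
    show Ideal.Quotient.mk (Ideal.span {f}) f ∈ (l (Fin.last _).rev).asIdeal
    rw [Ideal.Quotient.eq_zero_iff_mem.2 (Ideal.mem_span_singleton_self f)]
    exact zero_mem _
  · exact le_dim_closed_of_chain isClosed_closure y (fun i => mem_closure_of_chain y hchain (Fin.le_last i)) hchain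

include hM in
/-- The generic section is nonzero, and its zero set misses the generic point, as soon as one member of the
linear system is a frame somewhere. -/
theorem gsec_ne_zero [IsIntegral (XK k X ι)] {x : X} {j : ι} (hx : x ∈ CohB1.genLocus M (s j)) :
    genericPoint (XK k X ι) ∉ zeroSet (k := k) s ∧ gsec (k := k) s ≠ 0 := by
  classical
  obtain ⟨U, hU, hxU, hUj⟩ := exists_isAffineOpen_mem_and_subset (X := X) (x := x) hx
  haveI : Nonempty U := ⟨⟨x, hxU⟩⟩
  letI := algU (k := k) hU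
  obtain ⟨q, hq1, hq2, -, -⟩ := exists_chart (k := k) ι hU
  obtain ⟨f, hfj, hf⟩ := exists_coord (k := k) s hM hU hUj
  haveI : IsDomain (Γ(X, U) ⊗[k] RatF k ι) := isDomain_tensor
  let g₀ : PrimeSpectrum (Γ(X, U) ⊗[k] RatF k ι) := ⟨⊥, Ideal.bot_prime⟩
  have hg₀ : q g₀ ∉ zeroSet (k := k) s := fun h =>
    lin_ne_zero hfj (Ideal.mem_bot.1 ((hf q hq1 hq2 g₀).1 h))
  have hgen : genericPoint (XK k X ι) ∉ zeroSet (k := k) s := fun h =>
    hg₀ ((genericPoint_specializes (q g₀)).mem_closed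
      (CohB1.genLocus _ (gsec (k := k) s)).isOpen.isClosed_compl h)
  refine ⟨hgen, fun h0 => hgen fun hη => ?_⟩
  rw [h0] at hη
  obtain ⟨W, hηW, hW⟩ := (TMul.mem_genLocus_iff _).1 hη
  haveI : Nonempty W := ⟨⟨_, hηW⟩⟩
  have hz : TMul.val (0 : Coh.structureModule (XK k X ι) ⟶ (Scheme.Modules.pullback (pr k X ι)).obj M) W = 0 := rfl
  refine one_ne_zero (α := Γ(XK k X ι, W)) ((hW W le_rfl).1 ?_)
  simp only [hz, map_zero, smul_zero]

include hM in
/-- The zero set of the generic section is irreducible. -/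
theorem exists_point [IsIntegral (XK k X ι)] {r : ℕ} (hr : 2 ≤ r)
    (hX : topologicalKrullDim X = ((r + 1 : ℕ) : WithBot ℕ∞)) {C : Set X} (hC : IsClosed C)
    (hC1 : topologicalKrullDim C ≤ ((1 : ℕ) : WithBot ℕ∞))
    (hout : ∀ x : X, x ∉ C → ∃ j, x ∈ CohB1.genLocus M (s j))
    (hin : ∀ x : X, x ∈ C → ∀ j, x ∉ CohB1.genLocus M (s j))
    (hne : (zeroSet (k := k) s).Nonempty) :
    ∃ P : XK k X ι, closure ({P} : Set (XK k X ι)) = zeroSet (k := k) s ∧
      topologicalKrullDim (closure ({P} : Set (XK k X ι))) = (r : WithBot ℕ∞) ∧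
      pr k X ι P = genericPoint X ∧ pr k X ι ⁻¹' C ⊆ zeroSet (k := k) s := by
  classical
  haveI := CurveRR.isNoetherian_of_proper (RatF k ι) (XK k X ι)
  haveI := jacobsonSpace_XK (k := k) (X := X) (ι := ι)
  have hZc : IsClosed (zeroSet (k := k) s) := (CohB1.genLocus _ (gsec (k := k) s)).isOpen.isClosed_compl
  have hCc : IsClosed (pr k X ι ⁻¹' C) := hC.preimage (pr k X ι).continuous
  have hout' : ∀ {w : XK k X ι}, w ∈ zeroSet (k := k) s → IsClosed ({w} : Set (XK k X ι)) →
      ∃ y ∈ zeroSet (k := k) s, y ⤳ w ∧ pr k X ι y ∉ C := fun {w} hw hwc => by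
    obtain ⟨y, hy, hyw, hd⟩ := exists_high_generization s hM hX hw hwc
    refine ⟨y, hy, hyw, fun hyC => ?_⟩
    have h1 := hd.trans ((dim_closure_le hCc hyC).trans ((dim_preimage hC).le.trans hC1))
    have := CartierDim.natCast_le_withBot.1 h1
    omega
  -- the local generic points
  have hloc : ∀ (x : X), x ∉ C → ∃ (U : X.Opens), x ∈ U ∧
      ((∃ w ∈ zeroSet (k := k) s, pr k X ι w ∈ U) → ∃ P ∈ zeroSet (k := k) s, pr k X ι P = genericPoint X ∧
        ∀ w ∈ zeroSet (k := k) s, pr k X ι w ∈ U → P ⤳ w) := fun x hx => by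
    obtain ⟨j, hj⟩ := hout x hx
    obtain ⟨U, hU, hxU, hUj⟩ := exists_isAffineOpen_mem_and_subset (X := X) (x := x) hj
    refine ⟨U, hxU, ?_⟩
    rintro ⟨w, hw, hwU⟩
    haveI : Nonempty U := ⟨⟨x, hxU⟩⟩
    letI := algU (k := k) hU
    obtain ⟨q, hq1, hq2, -, hqr⟩ := exists_chart (k := k) ι hU
    obtain ⟨f, hfj, hf⟩ := exists_coord (k := k) s hM hU hUj
    obtain ⟨z, rfl⟩ : w ∈ Set.range q := hqr ▸ hwU
    obtain ⟨P, hP, hP0, hPmin⟩ := exists_min_prime hfj z ((hf q hq1 hq2 z).1 hw)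
    refine ⟨q P, (hf q hq1 hq2 P).2 hP, pr_chart_bot (k := k) ι hU q hq1 P hP0, fun w' hw' hw'U => ?_⟩
    obtain ⟨z', rfl⟩ : w' ∈ Set.range q := hqr ▸ hw'U
    exact ((PrimeSpectrum.le_iff_specializes P z').1 (hPmin z' ((hf q hq1 hq2 z').1 hw'))).map q.continuous
  obtain ⟨w₀, hw₀, hw₀c⟩ := hZc.exists_closed_singleton hne
  obtain ⟨y₀, hy₀, -, hy₀C⟩ := hout' hw₀ hw₀c
  obtain ⟨U₀, hy₀U, hU₀⟩ := hloc _ hy₀C
  obtain ⟨P, hPZ, hPη, hP⟩ := hU₀ ⟨y₀, hy₀, hy₀U⟩
  have hall : ∀ {y : XK k X ι}, y ∈ zeroSet (k := k) s → pr k X ι y ∉ C → P ⤳ y := fun {y} hy hyC => by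
    obtain ⟨U, hyU, hUP⟩ := hloc _ hyC
    obtain ⟨P', hP'Z, hP'η, hP'⟩ := hUP ⟨y, hy, hyU⟩
    have h1 : P ⤳ P' := hP P' hP'Z (by rw [hP'η]; exact (genericPoint_specializes _).mem_open U₀.isOpen hy₀U)
    exact h1.trans (hP' y hy hyU)
  have hcl : closure ({P} : Set (XK k X ι)) = zeroSet (k := k) s := by
    refine (closure_minimal (Set.singleton_subset_iff.2 hPZ) hZc).antisymm ?_
    rw [← JacobsonSpace.closure_inter_closedPoints hZc]
    refine closure_minimal ?_ isClosed_closure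
    rintro w ⟨hw, hwc⟩
    obtain ⟨y, hy, hyw, hyC⟩ := hout' hw hwc
    exact ((hall hy hyC).trans hyw).mem_closure
  refine ⟨P, hcl, le_antisymm ?_ ?_, hPη, fun w hw => base_subset_zeroSet s hM (hin _ hw)⟩
  · obtain ⟨j, hj⟩ := hout _ hy₀C
    rw [hcl]
    refine le_of_lt_succ' (dim_proper_lt (X := XK k X ι) (ξ := genericPoint (XK k X ι)) (n := r + 1) ?_ hZc
      (fun x _ => ?_) (gsec_ne_zero s hM hj).1)
    · rw [genericPoint_closure]
      exact lt_succ_of_le' ((topologicalKrullDim_subspace_le _ _).trans (dim_XK.trans hX).le)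
    · rw [genericPoint_closure]
      trivial
  · obtain ⟨y, hy, -, hd⟩ := exists_high_generization s hM hX hw₀ hw₀c
    rw [hcl]
    exact hd.trans (dim_closure_le hZc hy)

end Groth.Agent.GenMember
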