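import Mathlib

/-!
A domain tensored with the field of rational functions in finitely many variables, and the generic
linear form `∑ Tᵢ fᵢ` in it.
-/

set_option autoImplicit false

universe u

open TensorProduct

noncomputable section

namespace Groth.Agent.GenMember

variable (k : Type u) [Field k] (ι : Type u) [Finite ι]

/-- The field of rational functions. -/
abbrev RatF : Type u := FractionRing (MvPolynomial ι k)

variable {ι} (A : Type u) [CommRing A] [IsDomain A] [Algebra k A]

variable (ι) in
/-- Nonzero polynomials with constant coefficients, inside `A[T]`. -/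
def nz : Submonoid (MvPolynomial ι A) :=
  (nonZeroDivisors (MvPolynomial ι k)).map (MvPolynomial.map (algebraMap k A))

variable {k A}

theorem nz_le : nz k ι A ≤ nonZeroDivisors (MvPolynomial ι A) := by
  rintro _ ⟨p, hp, rfl⟩
  refine mem_nonZeroDivisors_of_ne_zero fun h => nonZeroDivisors.ne_zero hp ?_
  exact MvPolynomial.map_injective _ (algebraMap k A).injective (by rw [h, map_zero])

/-- The generic variable in the tensor product. -/
def T (i : ι) : A ⊗[k] RatF k ι := 1 ⊗ₜ algebraMap (MvPolynomial ι k) (RatF k ι) (MvPolynomial.X i)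

/-- `A[T] → A ⊗ k(T)`. -/
def toTensor : MvPolynomial ι A →+* A ⊗[k] RatF k ι :=
  (MvPolynomial.aeval (R := A) (T (k := k) (A := A))).toRingHom

theorem toTensor_map (p : MvPolynomial ι k) :
    toTensor (k := k) (MvPolynomial.map (algebraMap k A) p) =
      (Algebra.TensorProduct.includeRight : RatF k ι →ₐ[k] A ⊗[k] RatF k ι)
        (algebraMap (MvPolynomial ι k) (RatF k ι) p) := by
  have h : ((toTensor (k := k) (A := A) (ι := ι)).comp (MvPolynomial.map (algebraMap k A))) =
      ((Algebra.TensorProduct.includeRight : RatF k ι →ₐ[k] A ⊗[k] RatF k ι).toRingHom.comp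
        (algebraMap (MvPolynomial ι k) (RatF k ι))) := by
    refine MvPolynomial.ringHom_ext (fun c => ?_) fun i => ?_
    · show (MvPolynomial.aeval (R := A) (T (k := k) (A := A))) (MvPolynomial.map (algebraMap k A) (MvPolynomial.C c)) =
        (Algebra.TensorProduct.includeRight : RatF k ι →ₐ[k] A ⊗[k] RatF k ι)
          (algebraMap (MvPolynomial ι k) (RatF k ι) (algebraMap k (MvPolynomial ι k) c))
      rw [MvPolynomial.map_C, MvPolynomial.aeval_C, ← IsScalarTower.algebraMap_apply k A,
        ← IsScalarTower.algebraMap_apply k (MvPolynomial ι k), AlgHom.commutes]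
    · simp [toTensor, T]
  exact RingHom.congr_fun h p

/-- `A ⊗ k(T)` is the localisation of `A[T]` at the nonzero polynomials with constant coefficients. -/
theorem isLocalization_toTensor :
    letI := (toTensor (k := k) (A := A) (ι := ι)).toAlgebra
    IsLocalization (nz k ι A) (A ⊗[k] RatF k ι) := by
  letI := (toTensor (k := k) (A := A) (ι := ι)).toAlgebra
  let R := Localization (nz k ι A)
  let g : MvPolynomial ι k →+* R := (algebraMap (MvPolynomial ι A) R).comp (MvPolynomial.map (algebraMap k A))
  have hg : ∀ y : nonZeroDivisors (MvPolynomial ι k), IsUnit (g y) := fun y =>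
    IsLocalization.map_units R (⟨_, ⟨y.1, y.2, rfl⟩⟩ : nz k ι A)
  let gK : RatF k ι →ₐ[k] R :=
    { IsLocalization.lift hg with
      commutes' := fun c => by
        show IsLocalization.lift hg (algebraMap k (RatF k ι) c) = _
        rw [IsScalarTower.algebraMap_apply k (MvPolynomial ι k) (RatF k ι), IsLocalization.lift_eq]
        simp [g, MvPolynomial.algebraMap_eq, IsScalarTower.algebraMap_apply k (MvPolynomial ι A) R,
          MvPolynomial.algebraMap_apply] }
  let F : A ⊗[k] RatF k ι →ₐ[k] R :=
    Algebra.TensorProduct.lift (IsScalarTower.toAlgHom k A R) gK fun a b => Commute.all _ _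
  have hu : ∀ y : nz k ι A, IsUnit (toTensor (k := k) (y : MvPolynomial ι A)) := by
    rintro ⟨_, p, hp, rfl⟩
    show IsUnit (toTensor (MvPolynomial.map (algebraMap k A) p))
    rw [toTensor_map]
    exact (IsLocalization.map_units (RatF k ι) (⟨p, hp⟩ : nonZeroDivisors (MvPolynomial ι k))).map _
  let G : R →+* A ⊗[k] RatF k ι := IsLocalization.lift hu
  have hFG : ∀ x, F (toTensor x) = algebraMap (MvPolynomial ι A) R x := by
    intro x
    refine RingHom.congr_fun (f := F.toRingHom.comp toTensor) ?_ x
    refine MvPolynomial.ringHom_ext (fun a => ?_) fun i => ?_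
    · simp [toTensor, F, Algebra.TensorProduct.algebraMap_apply, IsScalarTower.algebraMap_apply A (MvPolynomial ι A) R,
        MvPolynomial.algebraMap_eq]
    · simp [toTensor, T, F, gK, g]
  have h1 : ∀ r, F (G r) = r := fun r => by
    refine RingHom.congr_fun (f := F.toRingHom.comp G) (g := RingHom.id R) ?_ r
    refine IsLocalization.ringHom_ext (nz k ι A) (RingHom.ext fun x => ?_)
    simp [G, hFG]
  have h2 : ∀ z, G (F z) = z := fun z => by
    induction z using TensorProduct.induction_on with
    | zero => simp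
    | add a b ha hb => simp [ha, hb]
    | tmul a c =>
      have e : (a ⊗ₜ c : A ⊗[k] RatF k ι) = (a ⊗ₜ 1) * (1 ⊗ₜ c) := by simp
      rw [e, map_mul, map_mul]
      congr 1
      · simp [F, G, IsScalarTower.algebraMap_apply A (MvPolynomial ι A) R, MvPolynomial.algebraMap_eq, toTensor,
          Algebra.TensorProduct.algebraMap_apply]
      · have e2 : (G.comp (F.toRingHom.comp Algebra.TensorProduct.includeRight.toRingHom)) =
            (Algebra.TensorProduct.includeRight : RatF k ι →ₐ[k] A ⊗[k] RatF k ι).toRingHom := by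
          refine IsLocalization.ringHom_ext (nonZeroDivisors (MvPolynomial ι k)) (RingHom.ext fun p => ?_)
          show G (F (Algebra.TensorProduct.includeRight (algebraMap _ _ p))) =
            Algebra.TensorProduct.includeRight (algebraMap _ _ p)
          rw [← toTensor_map, hFG]
          exact IsLocalization.lift_eq hu _
        exact RingHom.congr_fun e2 c
  let e : R ≃ₐ[MvPolynomial ι A] A ⊗[k] RatF k ι :=
    AlgEquiv.ofRingEquiv (f := { G with invFun := F, left_inv := h1, right_inv := h2 })
      fun x => IsLocalization.lift_eq hu x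
  exact IsLocalization.isLocalization_of_algEquiv (nz k ι A) e

theorem isDomain_tensor : IsDomain (A ⊗[k] RatF k ι) := by
  letI := (toTensor (k := k) (A := A) (ι := ι)).toAlgebra
  haveI := isLocalization_toTensor (k := k) (A := A) (ι := ι)
  exact IsLocalization.isDomain_of_le_nonZeroDivisors (S := A ⊗[k] RatF k ι) (M := nz k ι A) nz_le

variable [Fintype ι] [DecidableEq ι] {f : ι → A} {j : ι}

/-- The generic linear form with unit coefficient at `j` is a coordinate. -/
theorem exists_change (hf : f j = 1) : ∃ τ : MvPolynomial ι A ≃ₐ[A] MvPolynomial ι A,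
    τ (MvPolynomial.X j) = ∑ i, MvPolynomial.C (f i) * MvPolynomial.X i := by
  let rest : MvPolynomial ι A := ∑ i ∈ Finset.univ.erase j, MvPolynomial.C (f i) * MvPolynomial.X i
  let φ : MvPolynomial ι A →ₐ[A] MvPolynomial ι A :=
    MvPolynomial.aeval (Function.update MvPolynomial.X j (MvPolynomial.X j + rest))
  let ψ : MvPolynomial ι A →ₐ[A] MvPolynomial ι A :=
    MvPolynomial.aeval (Function.update MvPolynomial.X j (MvPolynomial.X j - rest))
  have hφr : φ rest = rest := by
    simp only [rest, map_sum, map_mul]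
    exact Finset.sum_congr rfl fun i hi => by simp [φ, Finset.ne_of_mem_erase hi]
  have hψr : ψ rest = rest := by
    simp only [rest, map_sum, map_mul]
    exact Finset.sum_congr rfl fun i hi => by simp [ψ, Finset.ne_of_mem_erase hi]
  have hφj : φ (MvPolynomial.X j) = MvPolynomial.X j + rest := by simp [φ]
  have hψj : ψ (MvPolynomial.X j) = MvPolynomial.X j - rest := by simp [ψ]
  refine ⟨AlgEquiv.ofAlgHom φ ψ ?_ ?_, ?_⟩
  · refine MvPolynomial.algHom_ext fun i => ?_
    show φ (ψ (MvPolynomial.X i)) = MvPolynomial.X i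
    by_cases h : i = j
    · subst h; rw [hψj, map_sub, hφr, hφj, add_sub_cancel_right]
    · simp [φ, ψ, h]
  · refine MvPolynomial.algHom_ext fun i => ?_
    show ψ (φ (MvPolynomial.X i)) = MvPolynomial.X i
    by_cases h : i = j
    · subst h; rw [hφj, map_add, hψr, hψj, sub_add_cancel]
    · simp [φ, ψ, h]
  · show φ (MvPolynomial.X j) = _
    rw [hφj, ← Finset.add_sum_erase _ _ (Finset.mem_univ j), hf, MvPolynomial.C_1, one_mul]

/-- The primes over the generic linear form have a common generisation over the generic point of `A`. -/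
theorem exists_min_prime (hf : f j = 1) (Q₀ : PrimeSpectrum (A ⊗[k] RatF k ι))
    (hQ₀ : ∑ i, (f i ⊗ₜ[k] (1 : RatF k ι)) * T i ∈ Q₀.asIdeal) :
    ∃ P : PrimeSpectrum (A ⊗[k] RatF k ι), ∑ i, (f i ⊗ₜ[k] (1 : RatF k ι)) * T i ∈ P.asIdeal ∧
      P.asIdeal.comap (algebraMap A (A ⊗[k] RatF k ι)) = ⊥ ∧
      ∀ Q : PrimeSpectrum (A ⊗[k] RatF k ι), ∑ i, (f i ⊗ₜ[k] (1 : RatF k ι)) * T i ∈ Q.asIdeal →
        P.asIdeal ≤ Q.asIdeal := by
  letI := (toTensor (k := k) (A := A) (ι := ι)).toAlgebra
  haveI := isLocalization_toTensor (k := k) (A := A) (ι := ι)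
  obtain ⟨τ, hτ⟩ := exists_change hf
  let ℓ : MvPolynomial ι A := ∑ i, MvPolynomial.C (f i) * MvPolynomial.X i
  let I : Ideal (MvPolynomial ι A) := Ideal.span {ℓ}
  have hℓ : algebraMap (MvPolynomial ι A) (A ⊗[k] RatF k ι) ℓ = ∑ i, (f i ⊗ₜ[k] (1 : RatF k ι)) * T i := by
    show toTensor ℓ = _
    simp [ℓ, toTensor, Algebra.TensorProduct.algebraMap_apply]
  have hprime : Prime ℓ := by
    have h := (MulEquiv.prime_iff τ.toMulEquiv).2 (MvPolynomial.X_prime (R := A) (i := j))
    rwa [show τ.toMulEquiv (MvPolynomial.X j) = ℓ from hτ] at h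
  haveI hI : I.IsPrime := (Ideal.span_singleton_prime hprime.ne_zero).2 hprime
  have hdisj : Disjoint (nz k ι A : Set (MvPolynomial ι A)) I := by
    have h1 : I ≤ Q₀.asIdeal.comap (algebraMap (MvPolynomial ι A) (A ⊗[k] RatF k ι)) :=
      (Ideal.span_singleton_le_iff_mem _).2 (show _ ∈ Q₀.asIdeal by rw [hℓ]; exact hQ₀)
    exact Set.disjoint_of_subset_right h1
      ((IsLocalization.isPrime_iff_isPrime_disjoint (nz k ι A) _ Q₀.asIdeal).1 Q₀.2).2
  refine ⟨⟨I.map (algebraMap (MvPolynomial ι A) (A ⊗[k] RatF k ι)),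
    IsLocalization.isPrime_of_isPrime_disjoint (nz k ι A) _ I hI hdisj⟩, ?_, ?_, fun Q hQ => ?_⟩
  · rw [← hℓ]; exact Ideal.mem_map_of_mem _ (Ideal.subset_span rfl)
  · rw [show algebraMap A (A ⊗[k] RatF k ι) =
      (algebraMap (MvPolynomial ι A) (A ⊗[k] RatF k ι)).comp (MvPolynomial.C) from RingHom.ext fun a => by
        show _ = toTensor (MvPolynomial.C a)
        simp [toTensor], ← Ideal.comap_comap]
    have hcm := IsLocalization.comap_map_of_isPrime_disjoint (nz k ι A) (A ⊗[k] RatF k ι) hI hdisj
    change Ideal.comap MvPolynomial.C (Ideal.under (MvPolynomial ι A)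
      (I.map (algebraMap (MvPolynomial ι A) (A ⊗[k] RatF k ι)))) = ⊥
    rw [hcm]
    refine (Submodule.eq_bot_iff _).2 fun a ha => ?_
    obtain ⟨c, hc⟩ := Ideal.mem_span_singleton'.1 (Ideal.mem_comap.1 ha)
    have h := congrArg (fun p => MvPolynomial.aeval (R := A) (fun i => if i = j then (0 : A) else 1) (τ.symm p)) hc
    simp only [map_mul, show τ.symm ℓ = MvPolynomial.X j from τ.symm_apply_eq.2 hτ.symm] at h
    rw [show τ.symm (MvPolynomial.C a) = MvPolynomial.C a from τ.symm.commutes a] at h
    simpa using h.symm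
  · rw [Ideal.map_le_iff_le_comap, Ideal.span_singleton_le_iff_mem, Ideal.mem_comap, hℓ]
    exact hQ

/-- The generic linear form does not vanish. -/
theorem lin_ne_zero (hf : f j = 1) : ∑ i, (f i ⊗ₜ[k] (1 : RatF k ι)) * T i ≠ 0 := by
  letI := (toTensor (k := k) (A := A) (ι := ι)).toAlgebra
  haveI := isLocalization_toTensor (k := k) (A := A) (ι := ι)
  have hℓ : ∑ i, (f i ⊗ₜ[k] (1 : RatF k ι)) * T i = toTensor (∑ i, MvPolynomial.C (f i) * MvPolynomial.X i) := by
    simp [toTensor, Algebra.TensorProduct.algebraMap_apply]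
  intro h
  have h0 : (∑ i, MvPolynomial.C (f i) * MvPolynomial.X i : MvPolynomial ι A) = 0 :=
    IsLocalization.injective (A ⊗[k] RatF k ι) (nz_le (k := k) (A := A) (ι := ι))
      (((show toTensor (k := k) (∑ i, MvPolynomial.C (f i) * MvPolynomial.X i) = 0 from hℓ ▸ h)).trans (map_zero _).symm)
  have := congrArg (MvPolynomial.eval fun i => if i = j then (1 : A) else 0) h0
  simp [hf] at this

end Groth.Agent.GenMember
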