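import Groth.Agent.GenMember.Ring
import Groth.Agent.C1Cap.PullGen
import Groth.Agent.TMul.AmpleBasis
import Groth.Agent.DimField.Scheme
import Groth.Agent.Nakai.ZeroLocus

/-!
The generic member of a linear system, over the field of rational functions in the coefficients.
-/

set_option autoImplicit false
set_option backward.isDefEq.respectTransparency false
set_option linter.style.haveILetI false
set_option linter.unusedSectionVars false

universe u

open CategoryTheory CategoryTheory.Limits AlgebraicGeometry TopologicalSpace TensorProduct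
open Groth.Agent.Intersect
open TMul (IsGen val homOf val_homOf)
open Groth.Agent.QC (res res_res res_smul res_self)

noncomputable section

namespace Groth.Agent.GenMember

variable (k : Type u) [Field k] (X : Scheme.{u}) [X.Over (Spec (CommRingCat.of k))]
  (ι : Type u) [Fintype ι]

/-- The base change to the field of rational functions. -/
abbrev XK : Scheme.{u} := Curv2.bc k X (RatF k ι)

/-- The projection. -/
abbrev pr : XK k X ι ⟶ X := Curv2.bcFst k X (RatF k ι)

instance overXK : (XK k X ι).Over (Spec (CommRingCat.of (RatF k ι))) := ⟨Curv2.bcSnd k X (RatF k ι)⟩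

/-- The coefficient `T i` as a global function. -/
def tt (i : ι) : Γ(XK k X ι, ⊤) :=
  (Curv2.bcSnd k X (RatF k ι)).appTop ((Scheme.ΓSpecIso _).inv
    (algebraMap (MvPolynomial ι k) (RatF k ι) (MvPolynomial.X i)))

variable {k X}

theorem isPullback_pr : IsPullback (pr k X ι) (Curv2.bcSnd k X (RatF k ι)) (X ↘ Spec (CommRingCat.of k))
    (Spec.map (CommRingCat.ofHom (algebraMap k (RatF k ι)))) :=
  IsPullback.of_hasPullback _ _

/-- The algebra structure of the sections over an affine open. -/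
abbrev algU {U : X.Opens} (hU : IsAffineOpen U) : Algebra k Γ(X, U) :=
  (Spec.preimage (hU.fromSpec ≫ (X ↘ Spec (CommRingCat.of k)))).hom.toAlgebra

theorem exists_chart {U : X.Opens} (hU : IsAffineOpen U) :
    letI := algU (k := k) hU
    ∃ q : Spec (CommRingCat.of (Γ(X, U) ⊗[k] RatF k ι)) ⟶ XK k X ι,
      q ≫ pr k X ι = Spec.map (CommRingCat.ofHom (algebraMap Γ(X, U) (Γ(X, U) ⊗[k] RatF k ι))) ≫ hU.fromSpec ∧
      q ≫ Curv2.bcSnd k X (RatF k ι) = Spec.map (CommRingCat.ofHom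
        (Algebra.TensorProduct.includeRight : RatF k ι →ₐ[k] Γ(X, U) ⊗[k] RatF k ι).toRingHom) ∧
      IsOpenImmersion q ∧ Set.range q = pr k X ι ⁻¹' (U : Set X) := by
  letI := algU (k := k) hU
  have h0 := isPullback_SpecMap_of_isPushout _ _ _ _
    (CommRingCat.isPushout_tensorProduct k Γ(X, U) (RatF k ι))
  have hs : Spec.map (CommRingCat.ofHom (algebraMap k Γ(X, U))) = hU.fromSpec ≫ (X ↘ Spec (CommRingCat.of k)) := by
    rw [RingHom.algebraMap_toAlgebra, CommRingCat.ofHom_hom, Spec.map_preimage]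
  rw [hs] at h0
  let q := (isPullback_pr (k := k) (X := X) ι).lift (Spec.map (CommRingCat.ofHom
      (Algebra.TensorProduct.includeLeftRingHom : Γ(X, U) →+* Γ(X, U) ⊗[k] RatF k ι)) ≫ hU.fromSpec)
    (Spec.map (CommRingCat.ofHom (Algebra.TensorProduct.includeRight : RatF k ι →ₐ[k] Γ(X, U) ⊗[k] RatF k ι).toRingHom))
    (by rw [Category.assoc]; exact h0.w)
  have hq1 : q ≫ pr k X ι = _ := IsPullback.lift_fst _ _ _ _
  have hq2 : q ≫ Curv2.bcSnd k X (RatF k ι) = _ := IsPullback.lift_snd _ _ _ _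
  have hp : IsPullback q (Spec.map (CommRingCat.ofHom
      (Algebra.TensorProduct.includeLeftRingHom : Γ(X, U) →+* Γ(X, U) ⊗[k] RatF k ι))) (pr k X ι) hU.fromSpec :=
    IsPullback.of_right (h₁₂ := Curv2.bcSnd k X (RatF k ι))
      (by rw [hq2]; exact h0.flip) hq1 (isPullback_pr ι).flip
  refine ⟨q, hq1, hq2, MorphismProperty.of_isPullback hp.flip inferInstance, ?_⟩
  refine Set.Subset.antisymm ?_ fun y hy => ?_
  · rintro _ ⟨z, rfl⟩
    show pr k X ι (q z) ∈ (U : Set X)
    rw [← hU.range_fromSpec, ← Scheme.Hom.comp_apply, hq1]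
    exact ⟨_, rfl⟩
  · obtain ⟨a, ha⟩ : pr k X ι y ∈ Set.range hU.fromSpec := by rw [hU.range_fromSpec]; exact hy
    obtain ⟨z, hz, -⟩ := Scheme.exists_preimage_of_isPullback hp y a ha.symm
    exact ⟨z, hz⟩

variable [IsIntegral X] [Nonempty ι]

theorem pr_chart_bot {U : X.Opens} (hU : IsAffineOpen U) [Nonempty U] :
    letI := algU (k := k) hU
    ∀ (q : Spec (CommRingCat.of (Γ(X, U) ⊗[k] RatF k ι)) ⟶ XK k X ι),
      q ≫ pr k X ι = Spec.map (CommRingCat.ofHom (algebraMap Γ(X, U) (Γ(X, U) ⊗[k] RatF k ι))) ≫ hU.fromSpec →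
      ∀ P : PrimeSpectrum (Γ(X, U) ⊗[k] RatF k ι), P.asIdeal.comap (algebraMap Γ(X, U) _) = ⊥ →
        pr k X ι (q P) = genericPoint X := by
  letI := algU (k := k) hU
  intro q hq P hP
  haveI : IrreducibleSpace (Spec Γ(X, U)) := inferInstance
  rw [← Scheme.Hom.comp_apply, hq, Scheme.Hom.comp_apply]
  rw [← genericPoint_eq_of_isOpenImmersion hU.fromSpec, genericPoint_eq_bot_of_affine]
  exact congrArg hU.fromSpec (PrimeSpectrum.ext hP)

variable (k X) in
theorem isIntegral_XK : IsIntegral (XK k X ι) := by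
  classical
  have hdom : ∀ {U : X.Opens} (hU : IsAffineOpen U), Nonempty U →
      letI := algU (k := k) hU
      IsDomain (Γ(X, U) ⊗[k] RatF k ι) := fun {U} hU hne => by
    letI := algU (k := k) hU
    exact isDomain_tensor
  -- one chart through every point
  have hgen : ∀ {U : X.Opens} (hU : IsAffineOpen U), Nonempty U →
      ∃ g : XK k X ι, pr k X ι g = genericPoint X ∧ ∀ y, pr k X ι y ∈ U → g ⤳ y := fun {U} hU hne => by
    letI := algU (k := k) hU
    haveI := hne
    obtain ⟨q, hq1, -, hqo, hqr⟩ := exists_chart (k := k) ι hU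
    haveI := hdom hU hne
    let g₀ : PrimeSpectrum (Γ(X, U) ⊗[k] RatF k ι) := ⟨⊥, Ideal.bot_prime⟩
    refine ⟨q g₀, pr_chart_bot (k := k) ι hU q hq1 g₀ ?_, fun y hy => ?_⟩
    · exact (RingHom.injective_iff_ker_eq_bot _).1
        (Algebra.TensorProduct.includeLeft_injective (R := k) (S := Γ(X, U)) (A := Γ(X, U)) (B := RatF k ι) (algebraMap k (RatF k ι)).injective)
    · obtain ⟨z, rfl⟩ : y ∈ Set.range q := hqr ▸ hy
      exact ((PrimeSpectrum.le_iff_specializes g₀ z).1 bot_le).map q.continuous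
  obtain ⟨U₀, hU₀, hη₀, -⟩ := exists_isAffineOpen_mem_and_subset (X := X) (x := genericPoint X) (U := ⊤) trivial
  obtain ⟨g, hg, hgU⟩ := hgen hU₀ ⟨⟨_, hη₀⟩⟩
  have hall : ∀ y, g ⤳ y := fun y => by
    obtain ⟨U, hU, hyU, -⟩ := exists_isAffineOpen_mem_and_subset (X := X) (x := pr k X ι y) (U := ⊤) trivial
    obtain ⟨g', hg', hg'U⟩ := hgen hU ⟨⟨_, hyU⟩⟩
    exact (hgU g' (by rw [hg']; exact hη₀)).trans (hg'U y hyU)
  haveI : IrreducibleSpace (XK k X ι) := by
    have hcl : closure ({g} : Set (XK k X ι)) = Set.univ :=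
      Set.eq_univ_of_forall fun y => (hall y).mem_closure
    haveI : PreirreducibleSpace (XK k X ι) :=
      ⟨by rw [← hcl]; exact isIrreducible_singleton.closure.2⟩
    exact { toNonempty := ⟨g⟩ }
  haveI : ∀ y : XK k X ι, _root_.IsReduced ((XK k X ι).presheaf.stalk y) := fun y => by
    obtain ⟨U, hU, hyU, -⟩ := exists_isAffineOpen_mem_and_subset (X := X) (x := pr k X ι y) (U := ⊤) trivial
    haveI : Nonempty U := ⟨⟨_, hyU⟩⟩
    letI := algU (k := k) hU
    haveI := hdom hU inferInstance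
    obtain ⟨q, hq1, -, hqo, hqr⟩ := exists_chart (k := k) ι hU
    haveI := hqo
    obtain ⟨z, rfl⟩ : y ∈ Set.range q := hqr ▸ hyU
    exact isReduced_of_injective (q.stalkMap z).hom (ConcreteCategory.bijective_of_isIso (q.stalkMap z)).1
  haveI : IsReduced (XK k X ι) := isReduced_of_isReduced_stalk _
  exact isIntegral_of_irreducibleSpace_of_isReduced _

variable {ι} {M : X.Modules} (s : ι → (Coh.structureModule X ⟶ M))

/-- The summands of the generic section. -/
def term (i : ι) : Coh.structureModule (XK k X ι) ⟶ (Scheme.Modules.pullback (pr k X ι)).obj M :=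
  homOf (tt k X ι i • (ProjUP.pullSec (pr k X ι) M (val (s i) ⊤) :
    Γ((Scheme.Modules.pullback (pr k X ι)).obj M, ⊤)))

/-- The generic section. -/
def gsec : Coh.structureModule (XK k X ι) ⟶ (Scheme.Modules.pullback (pr k X ι)).obj M :=
  ∑ i, term (k := k) s i

/-- Its zero set. -/
def zeroSet : Set (XK k X ι) :=
  (CohB1.genLocus _ (gsec (k := k) s) : Set (XK k X ι))ᶜ

theorem val_term {U : X.Opens} {e : Γ(M, U)} {c : Γ(X, U)} {i : ι} (hc : val (s i) U = c • e) :
    val (term (k := k) s i) (pr k X ι ⁻¹ᵁ U) =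
      (Groth.Agent.QC.resO (XK k X ι) (le_top : pr k X ι ⁻¹ᵁ U ≤ ⊤) (tt k X ι i) * (pr k X ι).app U c) •
        ProjMor.eta (pr k X ι) M U e := by
  rw [term, val_homOf, res_smul, ProjMor.res_pullSec (pr k X ι) M _ (le_rfl : pr k X ι ⁻¹ᵁ U ≤ _), res_self,
    TMul.res_val, hc, ProjMor.eta_smul, mul_smul]

variable (hM : PicF.IsInvertible M)
include hM

theorem base_subset_zeroSet {w : XK k X ι} (hw : ∀ i, pr k X ι w ∉ CohB1.genLocus M (s i)) :
    w ∈ zeroSet (k := k) s := by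
  intro h
  obtain ⟨i, hi⟩ := Opens.mem_iSup.1
    (TMul.genLocus_sum_le (term (k := k) s) (PicLoc.isInvertible_pullback _ hM) h)
  obtain ⟨U, e, hwU, he⟩ := TMul.exists_isGen hM (pr k X ι w)
  obtain ⟨c, hc⟩ := (he U le_rfl).2 (val (s i) U)
  simp only [res_self] at hc
  have h1 := (TMul.mem_genLocus_iff_isUnit _ (C1Cap.isGen_eta (pr k X ι) he) (val_term s hc.symm) hwU).1 hi
  rw [map_mul] at h1
  refine hw i ((TMul.mem_genLocus_iff_isUnit _ he hc.symm hwU).2 ?_)
  have h2 := isUnit_of_mul_isUnit_right h1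
  rw [← Scheme.Hom.germ_stalkMap_apply] at h2
  exact isUnit_of_map_unit ((pr k X ι).stalkMap w).hom _ h2

theorem exists_coord {U : X.Opens} (hU : IsAffineOpen U) {j : ι} (hj : U ≤ CohB1.genLocus M (s j)) :
    letI := algU (k := k) hU
    ∃ f : ι → Γ(X, U), f j = 1 ∧
      ∀ (q : Spec (CommRingCat.of (Γ(X, U) ⊗[k] RatF k ι)) ⟶ XK k X ι),
        q ≫ pr k X ι = Spec.map (CommRingCat.ofHom (algebraMap Γ(X, U) (Γ(X, U) ⊗[k] RatF k ι))) ≫ hU.fromSpec →
        q ≫ Curv2.bcSnd k X (RatF k ι) = Spec.map (CommRingCat.ofHom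
          (Algebra.TensorProduct.includeRight : RatF k ι →ₐ[k] Γ(X, U) ⊗[k] RatF k ι).toRingHom) →
        ∀ z, q z ∈ zeroSet (k := k) s ↔ ∑ i, (f i ⊗ₜ[k] (1 : RatF k ι)) * T i ∈ z.asIdeal := by
  letI := algU (k := k) hU
  have he : IsGen (val (s j) U) := by
    have h := TMul.isGen_genLocus (s j)
    intro V hV
    have h' := h V (hV.trans hj)
    simp only [TMul.res_val] at h' ⊢
    exact h'
  choose f hf using fun i => (he U le_rfl).2 (val (s i) U)
  simp only [res_self] at hf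
  have hfj : f j = 1 := (he U le_rfl).1 (by
    simp only [res_self]
    exact (hf j).trans (one_smul _ _).symm)
  refine ⟨f, hfj, fun q hq1 hq2 z => ?_⟩
  let W := pr k X ι ⁻¹ᵁ U
  let g : Γ(XK k X ι, W) :=
    ∑ i, Groth.Agent.QC.resO (XK k X ι) (le_top : W ≤ ⊤) (tt k X ι i) * (pr k X ι).app U (f i)
  have hval : val (gsec (k := k) s) W = g • ProjMor.eta (pr k X ι) M U (val (s j) U) := by
    rw [gsec, TMul.val_sum, Finset.sum_smul]
    exact Finset.sum_congr rfl fun i _ => val_term s (hf i).symm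
  have hzW : q z ∈ W := by
    show pr k X ι (q z) ∈ U
    rw [← Scheme.Hom.comp_apply, hq1, Scheme.Hom.comp_apply]
    exact hU.range_fromSpec.le ⟨_, rfl⟩
  have e1 : (⊤ : (Spec (CommRingCat.of (Γ(X, U) ⊗[k] RatF k ι))).Opens) ≤ q ⁻¹ᵁ W := fun z' _ => by
    show pr k X ι (q z') ∈ U
    rw [← Scheme.Hom.comp_apply, hq1, Scheme.Hom.comp_apply]
    exact hU.range_fromSpec.le ⟨_, rfl⟩
  have hfU : ∀ a : Γ(X, U), q.appLE W ⊤ e1 ((pr k X ι).app U a) =
      (Scheme.ΓSpecIso _).inv (a ⊗ₜ[k] (1 : RatF k ι)) := fun a => by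
    rw [← CommRingCat.comp_apply, Scheme.Hom.app_eq_appLE, Scheme.Hom.appLE_comp_appLE]
    simp only [hq1]
    rw [← Scheme.Hom.appLE_comp_appLE _ hU.fromSpec U ⊤ ⊤ (by rw [hU.fromSpec_preimage_self]) le_top,
      CommRingCat.comp_apply]
    have h2 : hU.fromSpec.appLE U ⊤ (by rw [hU.fromSpec_preimage_self]) = (Scheme.ΓSpecIso Γ(X, U)).inv := by
      rw [Scheme.Hom.appLE, hU.fromSpec_app_self]
      simp [← Functor.map_comp]
    rw [h2, ← CommRingCat.comp_apply]
    rw [show (Spec.map (CommRingCat.ofHom (algebraMap Γ(X, U) (Γ(X, U) ⊗[k] RatF k ι)))).appLE ⊤ ⊤ le_top =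
      (Spec.map (CommRingCat.ofHom (algebraMap Γ(X, U) (Γ(X, U) ⊗[k] RatF k ι)))).appTop from
      ((Spec.map _).app_eq_appLE (U := ⊤)).symm, ← Scheme.ΓSpecIso_inv_naturality]
    rfl
  have htt : ∀ i, q.appLE W ⊤ e1 (Groth.Agent.QC.resO (XK k X ι) (le_top : W ≤ ⊤) (tt k X ι i)) =
      (Scheme.ΓSpecIso _).inv (T i) := fun i => by
    have h3 : q.appTop (tt k X ι i) = (Scheme.ΓSpecIso _).inv (T i) := by
      rw [tt, ← CommRingCat.comp_apply, ← Scheme.Hom.comp_appTop, hq2, ← CommRingCat.comp_apply,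
        ← Scheme.ΓSpecIso_inv_naturality]
      rfl
    rw [← h3]
    show (Scheme.Hom.appLE q W ⊤ e1) ((XK k X ι).presheaf.map (homOfLE (le_top : W ≤ ⊤)).op (tt k X ι i)) = _
    rw [← CommRingCat.comp_apply, Scheme.Hom.map_appLE, Scheme.Hom.appTop, Scheme.Hom.app_eq_appLE]
    rfl
  show q z ∉ CohB1.genLocus _ (gsec (k := k) s) ↔ _
  rw [TMul.mem_genLocus_iff_isUnit _ (C1Cap.isGen_eta (pr k X ι) he) hval hzW,
    ← (XK k X ι).mem_basicOpen g (q z) hzW]
  have hb : q.appLE W ⊤ e1 g = (Scheme.ΓSpecIso _).inv (∑ i, (f i ⊗ₜ[k] (1 : RatF k ι)) * T i) := by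
    simp only [g, map_sum, map_mul, hfU, htt]
    exact Finset.sum_congr rfl fun i _ => mul_comm _ _
  have h4 := Scheme.basicOpen_appLE q ⊤ W e1 g
  rw [hb, basicOpen_eq_of_affine, top_inf_eq] at h4
  show z ∉ q ⁻¹ᵁ (XK k X ι).basicOpen g ↔ _
  rw [← h4]
  exact not_not

end Groth.Agent.GenMember
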